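import Cfsg.Agent.H6.More
import Cfsg.Agent.H6.He.Rep
import Cfsg.Agent.H6.He.C1.Main
import Cfsg.Agent.H6.He.C2.Main
import Cfsg.Agent.H6.He.C3.Main
import Cfsg.Agent.H6.He.C4.Main

set_option autoImplicit false
set_option maxRecDepth 100000

namespace Cfsg.H6.He

theorem cover : Cover (gen ev Ws) ⊤ 2058 := hX ▸ C1.cover hev hR

theorem ub : UB (⊤ : Subgroup Spor.He) 4030387200 :=
  hX ▸ (((UB.bot.cover (C4.cover hev ((rels_of_mem_nil (C5.mem hev hR)).append hR))).cover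
    (C3.cover hev hR)).cover (C2.cover hev hR))

def I : List Ivl := [(1, 137, [2,3,4,3,4,7]), (137, 273, [7,4,3,2,4,7]), (273, 698, [7]), (698, 2058, [2])]

theorem act : ∃ φ : Spor.He →* Equiv.Perm ℕ, IsAct φ ev img 2058 8 := by
  obtain ⟨ψ, hψ⟩ := lift rep.1 rep.2.1
  exact ⟨_, rep.2.2.comp ψ hψ⟩

/-- The permutation representation. -/
noncomputable def φ : Spor.He →* Equiv.Perm ℕ := act.choose

theorem hφ : IsAct φ ev img 2058 8 := act.choose_spec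

theorem prim : Prim φ ev (gen ev Ws) 2058 I :=
  prim_sound hφ cover (List.forall_mem_cons.mpr ⟨iv0 hφ, (List.forall_mem_cons.mpr ⟨iv1 hφ, (List.forall_mem_cons.mpr ⟨iv2 hφ, (List.forall_mem_cons.mpr ⟨iv3 hφ, (by simp)⟩)⟩)⟩)⟩) (by decide +kernel)

theorem coatom : IsCoatom (gen ev Ws) :=
  prim.isCoatom hφ hX (C := [[], [0,4,5,0,5,0,0], [0,0,5,3,0,0,0,7], [0,4,0,0,2,5,0], [0,0,6,0,4,3], [0,3,5,7,0,3,5,3,7,0], [0], [0,2,3,4,5,7,3,2,0,5,7]]) (by decide +kernel)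

def lW0 : List (List ℕ) := [[nat_lit 1], [nat_lit 3], [nat_lit 4], [nat_lit 5, nat_lit 6, nat_lit 4, nat_lit 5, nat_lit 3, nat_lit 4, nat_lit 6, nat_lit 5], [nat_lit 6, nat_lit 4, nat_lit 2, nat_lit 3, nat_lit 4, nat_lit 5, nat_lit 2, nat_lit 3, nat_lit 4, nat_lit 5, nat_lit 2, nat_lit 3, nat_lit 4, nat_lit 5, nat_lit 2, nat_lit 3, nat_lit 4, nat_lit 5, nat_lit 2, nat_lit 3, nat_lit 4, nat_lit 5, nat_lit 2, nat_lit 3, nat_lit 4, nat_lit 5, nat_lit 2, nat_lit 3, nat_lit 4, nat_lit 5, nat_lit 6, nat_lit 5, nat_lit 4, nat_lit 3, nat_lit 2, nat_lit 5, nat_lit 4, nat_lit 3, nat_lit 2, nat_lit 5, nat_lit 4, nat_lit 3, nat_lit 2, nat_lit 5, nat_lit 4, nat_lit 3, nat_lit 2, nat_lit 5, nat_lit 4, nat_lit 3, nat_lit 2, nat_lit 5, nat_lit 4, nat_lit 3, nat_lit 2, nat_lit 5, nat_lit 4, nat_lit 3, nat_lit 2, nat_lit 5, nat_lit 4, nat_lit 6]]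

theorem l0 : lvlChk img 2058 8 [1,0] (150, lW0, unp 35 (nat_lit 0xf0030000ff010000ea020000f001000103020000df04000100000000eb020000c9010000ca010000ca000000bd020000c4010000df010000c4000000b3030000ac0000009c0100009c000000b9020000f5010000dd010000f5000001040200010400000096030000ce000000b0010000b3010000b0000000a6020000a600000096020000960100009600)) = true := by
  decide +kernel

def lW1 : List (List ℕ) := [[nat_lit 4, nat_lit 3, nat_lit 4, nat_lit 3, nat_lit 4], [nat_lit 1, nat_lit 4, nat_lit 6, nat_lit 1, nat_lit 2, nat_lit 1, nat_lit 2, nat_lit 3, nat_lit 4, nat_lit 6, nat_lit 5, nat_lit 3, nat_lit 4], [nat_lit 1, nat_lit 6, nat_lit 4, nat_lit 5, nat_lit 2, nat_lit 3, nat_lit 4, nat_lit 5, nat_lit 2, nat_lit 3, nat_lit 4, nat_lit 5, nat_lit 2, nat_lit 3, nat_lit 4, nat_lit 5, nat_lit 2, nat_lit 3, nat_lit 4, nat_lit 5, nat_lit 2, nat_lit 3, nat_lit 4, nat_lit 5, nat_lit 2, nat_lit 3, nat_lit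 4, nat_lit 5, nat_lit 2, nat_lit 3, nat_lit 4, nat_lit 5, nat_lit 6, nat_lit 5, nat_lit 4, nat_lit 3, nat_lit 2, nat_lit 5, nat_lit 4, nat_lit 3, nat_lit 2, nat_lit 5, nat_lit 4, nat_lit 3, nat_lit 2, nat_lit 5, nat_lit 4, nat_lit 3, nat_lit 2, nat_lit 5, nat_lit 4, nat_lit 3, nat_lit 2, nat_lit 5, nat_lit 4, nat_lit 3, nat_lit 2, nat_lit 5, nat_lit 4, nat_lit 3, nat_lit 2, nat_lit 4, nat_lit 6]]

theorem l1 : lvlChk img 2058 8 [150,1,0] (24, lW1, unp 9 (nat_lit 0x670100004e0200006100000054010000540000002302000023000000180100001800)) = true := by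
  decide +kernel

def lW2 : List (List ℕ) := [[nat_lit 3, nat_lit 6, nat_lit 4, nat_lit 3, nat_lit 4, nat_lit 6, nat_lit 2, nat_lit 3, nat_lit 4, nat_lit 5, nat_lit 2, nat_lit 3, nat_lit 4, nat_lit 5, nat_lit 2, nat_lit 3, nat_lit 4, nat_lit 5, nat_lit 2, nat_lit 3, nat_lit 4, nat_lit 5, nat_lit 2, nat_lit 3, nat_lit 4, nat_lit 5, nat_lit 2, nat_lit 3, nat_lit 4, nat_lit 5, nat_lit 2, nat_lit 3, nat_lit 4, nat_lit 5, nat_lit 4, nat_lit 6, nat_lit 5, nat_lit 4, nat_lit 3, nat_lit 4, nat_lit 6, nat_lit 4, nat_lit 3], [nat_lit 5, nat_lit 4, nat_lit 3, nat_lit 4, nat_lit 6, nat_lit 5, nat_lit 4, nat_lit 3, nat_lit 2, nat_lit 5, nat_lit 4, nat_lit 3, nat_lit 2, nat_lit 5, nat_lit 4, nat_lit 3, nat_lit 2, nat_lit 5, nat_lit 4, nat_lit 3, nat_lit 2, nat_lit 5, nat_lit 4, nat_lit 3, nat_lit 2, nat_lit 5, nat_lit 4, nat_lit 3, nat_lit 2, nat_lit 5, nat_lit 4, nat_lit 3, nat_lit 2, nat_lit 1,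 nat_lit 2, nat_lit 1, nat_lit 2, nat_lit 3, nat_lit 4, nat_lit 6, nat_lit 4, nat_lit 3, nat_lit 4, nat_lit 5, nat_lit 3, nat_lit 4, nat_lit 3]]

theorem l2 : lvlChk img 2058 8 [24,150,1,0] (25, lW2, unp 3 (nat_lit 0x4e000000190100001900)) = true := by
  decide +kernel

def lW3 : List (List ℕ) := [[nat_lit 3, nat_lit 4, nat_lit 3, nat_lit 4, nat_lit 5, nat_lit 6, nat_lit 4, nat_lit 5, nat_lit 3, nat_lit 4, nat_lit 6, nat_lit 5, nat_lit 3], [nat_lit 6, nat_lit 4, nat_lit 3, nat_lit 4, nat_lit 6, nat_lit 2, nat_lit 3, nat_lit 4, nat_lit 5, nat_lit 2, nat_lit 3, nat_lit 4, nat_lit 5, nat_lit 2, nat_lit 3, nat_lit 4, nat_lit 5, nat_lit 2, nat_lit 3, nat_lit 4, nat_lit 5, nat_lit 2, nat_lit 3, nat_lit 4, nat_lit 5, nat_lit 2, nat_lit 3, nat_lit 4, nat_lit 5, nat_lit 2, nat_lit 3, nat_lit 4, nat_lit 5, nat_lit 6, nat_lit 4, nat_lit 3, nat_lit 4, nat_lit 6, nat_lit 1]]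

theorem l3 : lvlChk img 2058 8 [25,24,150,1,0] (2, lW3, unp 4 (nat_lit 0x7801000039000000020100000200)) = true := by
  decide +kernel

def lW4 : List (List ℕ) := [[nat_lit 4, nat_lit 3, nat_lit 4, nat_lit 3, nat_lit 6, nat_lit 4, nat_lit 3, nat_lit 4, nat_lit 6, nat_lit 5, nat_lit 4, nat_lit 3, nat_lit 2, nat_lit 5, nat_lit 4, nat_lit 3, nat_lit 2, nat_lit 5, nat_lit 4, nat_lit 3, nat_lit 2, nat_lit 5, nat_lit 4, nat_lit 3, nat_lit 2, nat_lit 5, nat_lit 4, nat_lit 3, nat_lit 2, nat_lit 5, nat_lit 4, nat_lit 3, nat_lit 2, nat_lit 5, nat_lit 4, nat_lit 3, nat_lit 2, nat_lit 6, nat_lit 4, nat_lit 3, nat_lit 4, nat_lit 6, nat_lit 3, nat_lit 4, nat_lit 3, nat_lit 4, nat_lit 1]]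

theorem l4 : lvlChk img 2058 8 [2,25,24,150,1,0] (3, lW4, unp 1 (nat_lit 0x300)) = true := by
  decide +kernel

theorem finite : Finite Spor.He := ub.top.1

def bs : List ℕ := [3,2,25,24,150,1,0]

theorem lb : LBn φ ⊤ 2058 bs 4030387200 := by
  have := finite
  exact LBn.cast ((((((prim.lb2 (e := I.head (by decide)) (List.head_mem _)).stepT hφ l0).stepT hφ l1).stepT hφ l2).stepT hφ l3).stepT hφ l4) (by decide +kernel)

theorem main : Nat.card Spor.He = 4030387200 ∧ fixS φ bs = ⊥ ∧ Oracle ev img 8 bs := by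
  have := finite
  exact lb.oracle hφ ub.top.2

theorem normal (N : Subgroup Spor.He) [N.Normal] (hN : N ≠ ⊥) :
    ∀ t ∈ ([[1], [2], [3], [4], [5], [6], [7]] : List (List ℕ)), evL ev t ∈ N := by
  have := finite
  exact prim.normal_contains hev coatom lb.2 main.2.1 main.2.2 (p := 7) (k := 3) (j := 1) (by norm_num)
    main.1 (x := [7,4,6]) (St := [([7,4,6], [], [6], 3, 2), ([6], [], [4], 3, 2), ([4], [], [5], 3, 2), ([4], [], [7], 3, 2), ([7,4,6], [4], [3], 7, 2), ([3], [], [2], 3, 2), ([3], [3,1,7,2,4,7,3,4,3,6,4,4,2,4], [1], 5, 2)]) (by decide +kernel) N hN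

theorem simple : IsSimpleGroup Spor.He := by
  have := prim.nontrivial
  exact isSimple_of_contains hX normal

end Cfsg.H6.He
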